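import Cfsg.Agent.Lib.H35.TCF24A.Snd
import Cfsg.Agent.Lib.H35.TCF24A.R0
import Cfsg.Agent.Lib.H35.TCF24A.R1
import Cfsg.Agent.Lib.H35.TCF24A.R2
import Cfsg.Agent.Lib.H35.TCF24A.R3
import Cfsg.Agent.Lib.H35.TCF24A.R4
import Cfsg.Agent.Lib.H35.TCF24A.R5
import Cfsg.Agent.Lib.H35.TCF24A.R6
import Cfsg.Agent.Lib.H35.TCF24A.R7
import Cfsg.Agent.Lib.H35.TCF24A.R8
import Cfsg.Agent.Lib.H35.TCF24A.R9
import Cfsg.Agent.Lib.H35.TCF24A.R10
import Cfsg.Agent.Lib.H35.TCF24A.R11
import Cfsg.Agent.Lib.H35.TCF24A.R12
import Cfsg.Agent.Lib.H35.TCF24A.R13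
import Cfsg.Agent.Lib.H35.TCF24A.R14
import Cfsg.Agent.Lib.H35.TCF24A.R15

/-!  -/

set_option autoImplicit false
set_option maxRecDepth 100000
set_option linter.all false
namespace H35.TCF24A
open H35.TC
theorem cnt_live : cntB liveP 19 0 = 306936 := by
  have h : Nat.beq (cntB liveP 19 0) 306936 = true := by decide +kernel
  exact eqOfBeq h
theorem all_nodes : ∀ u, u < M → chkP u = true := by
  intro u hu
  have hu' : u < 307278 := hu
  rcases Nat.lt_or_ge u 1024 with h | h
  · exact allB_spec _ _ _ r_0 u (by omega) (by omega)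
  rcases Nat.lt_or_ge u 2048 with h | h
  · exact allB_spec _ _ _ r_1 u (by omega) (by omega)
  rcases Nat.lt_or_ge u 3072 with h | h
  · exact allB_spec _ _ _ r_2 u (by omega) (by omega)
  rcases Nat.lt_or_ge u 4096 with h | h
  · exact allB_spec _ _ _ r_3 u (by omega) (by omega)
  rcases Nat.lt_or_ge u 5120 with h | h
  · exact allB_spec _ _ _ r_4 u (by omega) (by omega)
  rcases Nat.lt_or_ge u 6144 with h | h
  · exact allB_spec _ _ _ r_5 u (by omega) (by omega)
  rcases Nat.lt_or_ge u 7168 with h | h
  · exact allB_spec _ _ _ r_6 u (by omega) (by omega)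
  rcases Nat.lt_or_ge u 8192 with h | h
  · exact allB_spec _ _ _ r_7 u (by omega) (by omega)
  rcases Nat.lt_or_ge u 9216 with h | h
  · exact allB_spec _ _ _ r_8 u (by omega) (by omega)
  rcases Nat.lt_or_ge u 10240 with h | h
  · exact allB_spec _ _ _ r_9 u (by omega) (by omega)
  rcases Nat.lt_or_ge u 11264 with h | h
  · exact allB_spec _ _ _ r_10 u (by omega) (by omega)
  rcases Nat.lt_or_ge u 12288 with h | h
  · exact allB_spec _ _ _ r_11 u (by omega) (by omega)
  rcases Nat.lt_or_ge u 13312 with h | h
  · exact allB_spec _ _ _ r_12 u (by omega) (by omega)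
  rcases Nat.lt_or_ge u 14336 with h | h
  · exact allB_spec _ _ _ r_13 u (by omega) (by omega)
  rcases Nat.lt_or_ge u 15360 with h | h
  · exact allB_spec _ _ _ r_14 u (by omega) (by omega)
  rcases Nat.lt_or_ge u 16384 with h | h
  · exact allB_spec _ _ _ r_15 u (by omega) (by omega)
  rcases Nat.lt_or_ge u 17408 with h | h
  · exact allB_spec _ _ _ r_16 u (by omega) (by omega)
  rcases Nat.lt_or_ge u 18432 with h | h
  · exact allB_spec _ _ _ r_17 u (by omega) (by omega)
  rcases Nat.lt_or_ge u 19456 with h | h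
  · exact allB_spec _ _ _ r_18 u (by omega) (by omega)
  rcases Nat.lt_or_ge u 20480 with h | h
  · exact allB_spec _ _ _ r_19 u (by omega) (by omega)
  rcases Nat.lt_or_ge u 21504 with h | h
  · exact allB_spec _ _ _ r_20 u (by omega) (by omega)
  rcases Nat.lt_or_ge u 22528 with h | h
  · exact allB_spec _ _ _ r_21 u (by omega) (by omega)
  rcases Nat.lt_or_ge u 23552 with h | h
  · exact allB_spec _ _ _ r_22 u (by omega) (by omega)
  rcases Nat.lt_or_ge u 24576 with h | h
  · exact allB_spec _ _ _ r_23 u (by omega) (by omega)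
  rcases Nat.lt_or_ge u 25600 with h | h
  · exact allB_spec _ _ _ r_24 u (by omega) (by omega)
  rcases Nat.lt_or_ge u 26624 with h | h
  · exact allB_spec _ _ _ r_25 u (by omega) (by omega)
  rcases Nat.lt_or_ge u 27648 with h | h
  · exact allB_spec _ _ _ r_26 u (by omega) (by omega)
  rcases Nat.lt_or_ge u 28672 with h | h
  · exact allB_spec _ _ _ r_27 u (by omega) (by omega)
  rcases Nat.lt_or_ge u 29696 with h | h
  · exact allB_spec _ _ _ r_28 u (by omega) (by omega)
  rcases Nat.lt_or_ge u 30720 with h | h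
  · exact allB_spec _ _ _ r_29 u (by omega) (by omega)
  rcases Nat.lt_or_ge u 31744 with h | h
  · exact allB_spec _ _ _ r_30 u (by omega) (by omega)
  rcases Nat.lt_or_ge u 32768 with h | h
  · exact allB_spec _ _ _ r_31 u (by omega) (by omega)
  rcases Nat.lt_or_ge u 33792 with h | h
  · exact allB_spec _ _ _ r_32 u (by omega) (by omega)
  rcases Nat.lt_or_ge u 34816 with h | h
  · exact allB_spec _ _ _ r_33 u (by omega) (by omega)
  rcases Nat.lt_or_ge u 35840 with h | h
  · exact allB_spec _ _ _ r_34 u (by omega) (by omega)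
  rcases Nat.lt_or_ge u 36864 with h | h
  · exact allB_spec _ _ _ r_35 u (by omega) (by omega)
  rcases Nat.lt_or_ge u 37888 with h | h
  · exact allB_spec _ _ _ r_36 u (by omega) (by omega)
  rcases Nat.lt_or_ge u 38912 with h | h
  · exact allB_spec _ _ _ r_37 u (by omega) (by omega)
  rcases Nat.lt_or_ge u 39936 with h | h
  · exact allB_spec _ _ _ r_38 u (by omega) (by omega)
  rcases Nat.lt_or_ge u 40960 with h | h
  · exact allB_spec _ _ _ r_39 u (by omega) (by omega)
  rcases Nat.lt_or_ge u 41984 with h | h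
  · exact allB_spec _ _ _ r_40 u (by omega) (by omega)
  rcases Nat.lt_or_ge u 43008 with h | h
  · exact allB_spec _ _ _ r_41 u (by omega) (by omega)
  rcases Nat.lt_or_ge u 44032 with h | h
  · exact allB_spec _ _ _ r_42 u (by omega) (by omega)
  rcases Nat.lt_or_ge u 45056 with h | h
  · exact allB_spec _ _ _ r_43 u (by omega) (by omega)
  rcases Nat.lt_or_ge u 46080 with h | h
  · exact allB_spec _ _ _ r_44 u (by omega) (by omega)
  rcases Nat.lt_or_ge u 47104 with h | h
  · exact allB_spec _ _ _ r_45 u (by omega) (by omega)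
  rcases Nat.lt_or_ge u 48128 with h | h
  · exact allB_spec _ _ _ r_46 u (by omega) (by omega)
  rcases Nat.lt_or_ge u 49152 with h | h
  · exact allB_spec _ _ _ r_47 u (by omega) (by omega)
  rcases Nat.lt_or_ge u 50176 with h | h
  · exact allB_spec _ _ _ r_48 u (by omega) (by omega)
  rcases Nat.lt_or_ge u 51200 with h | h
  · exact allB_spec _ _ _ r_49 u (by omega) (by omega)
  rcases Nat.lt_or_ge u 52224 with h | h
  · exact allB_spec _ _ _ r_50 u (by omega) (by omega)
  rcases Nat.lt_or_ge u 53248 with h | h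
  · exact allB_spec _ _ _ r_51 u (by omega) (by omega)
  rcases Nat.lt_or_ge u 54272 with h | h
  · exact allB_spec _ _ _ r_52 u (by omega) (by omega)
  rcases Nat.lt_or_ge u 55296 with h | h
  · exact allB_spec _ _ _ r_53 u (by omega) (by omega)
  rcases Nat.lt_or_ge u 56320 with h | h
  · exact allB_spec _ _ _ r_54 u (by omega) (by omega)
  rcases Nat.lt_or_ge u 57344 with h | h
  · exact allB_spec _ _ _ r_55 u (by omega) (by omega)
  rcases Nat.lt_or_ge u 58368 with h | h
  · exact allB_spec _ _ _ r_56 u (by omega) (by omega)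
  rcases Nat.lt_or_ge u 59392 with h | h
  · exact allB_spec _ _ _ r_57 u (by omega) (by omega)
  rcases Nat.lt_or_ge u 60416 with h | h
  · exact allB_spec _ _ _ r_58 u (by omega) (by omega)
  rcases Nat.lt_or_ge u 61440 with h | h
  · exact allB_spec _ _ _ r_59 u (by omega) (by omega)
  rcases Nat.lt_or_ge u 62464 with h | h
  · exact allB_spec _ _ _ r_60 u (by omega) (by omega)
  rcases Nat.lt_or_ge u 63488 with h | h
  · exact allB_spec _ _ _ r_61 u (by omega) (by omega)
  rcases Nat.lt_or_ge u 64512 with h | h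
  · exact allB_spec _ _ _ r_62 u (by omega) (by omega)
  rcases Nat.lt_or_ge u 65536 with h | h
  · exact allB_spec _ _ _ r_63 u (by omega) (by omega)
  rcases Nat.lt_or_ge u 66560 with h | h
  · exact allB_spec _ _ _ r_64 u (by omega) (by omega)
  rcases Nat.lt_or_ge u 67584 with h | h
  · exact allB_spec _ _ _ r_65 u (by omega) (by omega)
  rcases Nat.lt_or_ge u 68608 with h | h
  · exact allB_spec _ _ _ r_66 u (by omega) (by omega)
  rcases Nat.lt_or_ge u 69632 with h | h
  · exact allB_spec _ _ _ r_67 u (by omega) (by omega)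
  rcases Nat.lt_or_ge u 70656 with h | h
  · exact allB_spec _ _ _ r_68 u (by omega) (by omega)
  rcases Nat.lt_or_ge u 71680 with h | h
  · exact allB_spec _ _ _ r_69 u (by omega) (by omega)
  rcases Nat.lt_or_ge u 72704 with h | h
  · exact allB_spec _ _ _ r_70 u (by omega) (by omega)
  rcases Nat.lt_or_ge u 73728 with h | h
  · exact allB_spec _ _ _ r_71 u (by omega) (by omega)
  rcases Nat.lt_or_ge u 74752 with h | h
  · exact allB_spec _ _ _ r_72 u (by omega) (by omega)
  rcases Nat.lt_or_ge u 75776 with h | h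
  · exact allB_spec _ _ _ r_73 u (by omega) (by omega)
  rcases Nat.lt_or_ge u 76800 with h | h
  · exact allB_spec _ _ _ r_74 u (by omega) (by omega)
  rcases Nat.lt_or_ge u 77824 with h | h
  · exact allB_spec _ _ _ r_75 u (by omega) (by omega)
  rcases Nat.lt_or_ge u 78848 with h | h
  · exact allB_spec _ _ _ r_76 u (by omega) (by omega)
  rcases Nat.lt_or_ge u 79872 with h | h
  · exact allB_spec _ _ _ r_77 u (by omega) (by omega)
  rcases Nat.lt_or_ge u 80896 with h | h
  · exact allB_spec _ _ _ r_78 u (by omega) (by omega)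
  rcases Nat.lt_or_ge u 81920 with h | h
  · exact allB_spec _ _ _ r_79 u (by omega) (by omega)
  rcases Nat.lt_or_ge u 82944 with h | h
  · exact allB_spec _ _ _ r_80 u (by omega) (by omega)
  rcases Nat.lt_or_ge u 83968 with h | h
  · exact allB_spec _ _ _ r_81 u (by omega) (by omega)
  rcases Nat.lt_or_ge u 84992 with h | h
  · exact allB_spec _ _ _ r_82 u (by omega) (by omega)
  rcases Nat.lt_or_ge u 86016 with h | h
  · exact allB_spec _ _ _ r_83 u (by omega) (by omega)
  rcases Nat.lt_or_ge u 87040 with h | h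
  · exact allB_spec _ _ _ r_84 u (by omega) (by omega)
  rcases Nat.lt_or_ge u 88064 with h | h
  · exact allB_spec _ _ _ r_85 u (by omega) (by omega)
  rcases Nat.lt_or_ge u 89088 with h | h
  · exact allB_spec _ _ _ r_86 u (by omega) (by omega)
  rcases Nat.lt_or_ge u 90112 with h | h
  · exact allB_spec _ _ _ r_87 u (by omega) (by omega)
  rcases Nat.lt_or_ge u 91136 with h | h
  · exact allB_spec _ _ _ r_88 u (by omega) (by omega)
  rcases Nat.lt_or_ge u 92160 with h | h
  · exact allB_spec _ _ _ r_89 u (by omega) (by omega)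
  rcases Nat.lt_or_ge u 93184 with h | h
  · exact allB_spec _ _ _ r_90 u (by omega) (by omega)
  rcases Nat.lt_or_ge u 94208 with h | h
  · exact allB_spec _ _ _ r_91 u (by omega) (by omega)
  rcases Nat.lt_or_ge u 95232 with h | h
  · exact allB_spec _ _ _ r_92 u (by omega) (by omega)
  rcases Nat.lt_or_ge u 96256 with h | h
  · exact allB_spec _ _ _ r_93 u (by omega) (by omega)
  rcases Nat.lt_or_ge u 97280 with h | h
  · exact allB_spec _ _ _ r_94 u (by omega) (by omega)
  rcases Nat.lt_or_ge u 98304 with h | h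
  · exact allB_spec _ _ _ r_95 u (by omega) (by omega)
  rcases Nat.lt_or_ge u 99328 with h | h
  · exact allB_spec _ _ _ r_96 u (by omega) (by omega)
  rcases Nat.lt_or_ge u 100352 with h | h
  · exact allB_spec _ _ _ r_97 u (by omega) (by omega)
  rcases Nat.lt_or_ge u 101376 with h | h
  · exact allB_spec _ _ _ r_98 u (by omega) (by omega)
  rcases Nat.lt_or_ge u 102400 with h | h
  · exact allB_spec _ _ _ r_99 u (by omega) (by omega)
  rcases Nat.lt_or_ge u 103424 with h | h
  · exact allB_spec _ _ _ r_100 u (by omega) (by omega)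
  rcases Nat.lt_or_ge u 104448 with h | h
  · exact allB_spec _ _ _ r_101 u (by omega) (by omega)
  rcases Nat.lt_or_ge u 105472 with h | h
  · exact allB_spec _ _ _ r_102 u (by omega) (by omega)
  rcases Nat.lt_or_ge u 106496 with h | h
  · exact allB_spec _ _ _ r_103 u (by omega) (by omega)
  rcases Nat.lt_or_ge u 107520 with h | h
  · exact allB_spec _ _ _ r_104 u (by omega) (by omega)
  rcases Nat.lt_or_ge u 108544 with h | h
  · exact allB_spec _ _ _ r_105 u (by omega) (by omega)
  rcases Nat.lt_or_ge u 109568 with h | h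
  · exact allB_spec _ _ _ r_106 u (by omega) (by omega)
  rcases Nat.lt_or_ge u 110592 with h | h
  · exact allB_spec _ _ _ r_107 u (by omega) (by omega)
  rcases Nat.lt_or_ge u 111616 with h | h
  · exact allB_spec _ _ _ r_108 u (by omega) (by omega)
  rcases Nat.lt_or_ge u 112640 with h | h
  · exact allB_spec _ _ _ r_109 u (by omega) (by omega)
  rcases Nat.lt_or_ge u 113664 with h | h
  · exact allB_spec _ _ _ r_110 u (by omega) (by omega)
  rcases Nat.lt_or_ge u 114688 with h | h
  · exact allB_spec _ _ _ r_111 u (by omega) (by omega)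
  rcases Nat.lt_or_ge u 115712 with h | h
  · exact allB_spec _ _ _ r_112 u (by omega) (by omega)
  rcases Nat.lt_or_ge u 116736 with h | h
  · exact allB_spec _ _ _ r_113 u (by omega) (by omega)
  rcases Nat.lt_or_ge u 117760 with h | h
  · exact allB_spec _ _ _ r_114 u (by omega) (by omega)
  rcases Nat.lt_or_ge u 118784 with h | h
  · exact allB_spec _ _ _ r_115 u (by omega) (by omega)
  rcases Nat.lt_or_ge u 119808 with h | h
  · exact allB_spec _ _ _ r_116 u (by omega) (by omega)
  rcases Nat.lt_or_ge u 120832 with h | h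
  · exact allB_spec _ _ _ r_117 u (by omega) (by omega)
  rcases Nat.lt_or_ge u 121856 with h | h
  · exact allB_spec _ _ _ r_118 u (by omega) (by omega)
  rcases Nat.lt_or_ge u 122880 with h | h
  · exact allB_spec _ _ _ r_119 u (by omega) (by omega)
  rcases Nat.lt_or_ge u 123904 with h | h
  · exact allB_spec _ _ _ r_120 u (by omega) (by omega)
  rcases Nat.lt_or_ge u 124928 with h | h
  · exact allB_spec _ _ _ r_121 u (by omega) (by omega)
  rcases Nat.lt_or_ge u 125952 with h | h
  · exact allB_spec _ _ _ r_122 u (by omega) (by omega)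
  rcases Nat.lt_or_ge u 126976 with h | h
  · exact allB_spec _ _ _ r_123 u (by omega) (by omega)
  rcases Nat.lt_or_ge u 128000 with h | h
  · exact allB_spec _ _ _ r_124 u (by omega) (by omega)
  rcases Nat.lt_or_ge u 129024 with h | h
  · exact allB_spec _ _ _ r_125 u (by omega) (by omega)
  rcases Nat.lt_or_ge u 130048 with h | h
  · exact allB_spec _ _ _ r_126 u (by omega) (by omega)
  rcases Nat.lt_or_ge u 131072 with h | h
  · exact allB_spec _ _ _ r_127 u (by omega) (by omega)
  rcases Nat.lt_or_ge u 132096 with h | h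
  · exact allB_spec _ _ _ r_128 u (by omega) (by omega)
  rcases Nat.lt_or_ge u 133120 with h | h
  · exact allB_spec _ _ _ r_129 u (by omega) (by omega)
  rcases Nat.lt_or_ge u 134144 with h | h
  · exact allB_spec _ _ _ r_130 u (by omega) (by omega)
  rcases Nat.lt_or_ge u 135168 with h | h
  · exact allB_spec _ _ _ r_131 u (by omega) (by omega)
  rcases Nat.lt_or_ge u 136192 with h | h
  · exact allB_spec _ _ _ r_132 u (by omega) (by omega)
  rcases Nat.lt_or_ge u 137216 with h | h
  · exact allB_spec _ _ _ r_133 u (by omega) (by omega)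
  rcases Nat.lt_or_ge u 138240 with h | h
  · exact allB_spec _ _ _ r_134 u (by omega) (by omega)
  rcases Nat.lt_or_ge u 139264 with h | h
  · exact allB_spec _ _ _ r_135 u (by omega) (by omega)
  rcases Nat.lt_or_ge u 140288 with h | h
  · exact allB_spec _ _ _ r_136 u (by omega) (by omega)
  rcases Nat.lt_or_ge u 141312 with h | h
  · exact allB_spec _ _ _ r_137 u (by omega) (by omega)
  rcases Nat.lt_or_ge u 142336 with h | h
  · exact allB_spec _ _ _ r_138 u (by omega) (by omega)
  rcases Nat.lt_or_ge u 143360 with h | h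
  · exact allB_spec _ _ _ r_139 u (by omega) (by omega)
  rcases Nat.lt_or_ge u 144384 with h | h
  · exact allB_spec _ _ _ r_140 u (by omega) (by omega)
  rcases Nat.lt_or_ge u 145408 with h | h
  · exact allB_spec _ _ _ r_141 u (by omega) (by omega)
  rcases Nat.lt_or_ge u 146432 with h | h
  · exact allB_spec _ _ _ r_142 u (by omega) (by omega)
  rcases Nat.lt_or_ge u 147456 with h | h
  · exact allB_spec _ _ _ r_143 u (by omega) (by omega)
  rcases Nat.lt_or_ge u 148480 with h | h
  · exact allB_spec _ _ _ r_144 u (by omega) (by omega)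
  rcases Nat.lt_or_ge u 149504 with h | h
  · exact allB_spec _ _ _ r_145 u (by omega) (by omega)
  rcases Nat.lt_or_ge u 150528 with h | h
  · exact allB_spec _ _ _ r_146 u (by omega) (by omega)
  rcases Nat.lt_or_ge u 151552 with h | h
  · exact allB_spec _ _ _ r_147 u (by omega) (by omega)
  rcases Nat.lt_or_ge u 152576 with h | h
  · exact allB_spec _ _ _ r_148 u (by omega) (by omega)
  rcases Nat.lt_or_ge u 153600 with h | h
  · exact allB_spec _ _ _ r_149 u (by omega) (by omega)
  rcases Nat.lt_or_ge u 154624 with h | h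
  · exact allB_spec _ _ _ r_150 u (by omega) (by omega)
  rcases Nat.lt_or_ge u 155648 with h | h
  · exact allB_spec _ _ _ r_151 u (by omega) (by omega)
  rcases Nat.lt_or_ge u 156672 with h | h
  · exact allB_spec _ _ _ r_152 u (by omega) (by omega)
  rcases Nat.lt_or_ge u 157696 with h | h
  · exact allB_spec _ _ _ r_153 u (by omega) (by omega)
  rcases Nat.lt_or_ge u 158720 with h | h
  · exact allB_spec _ _ _ r_154 u (by omega) (by omega)
  rcases Nat.lt_or_ge u 159744 with h | h
  · exact allB_spec _ _ _ r_155 u (by omega) (by omega)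
  rcases Nat.lt_or_ge u 160768 with h | h
  · exact allB_spec _ _ _ r_156 u (by omega) (by omega)
  rcases Nat.lt_or_ge u 161792 with h | h
  · exact allB_spec _ _ _ r_157 u (by omega) (by omega)
  rcases Nat.lt_or_ge u 162816 with h | h
  · exact allB_spec _ _ _ r_158 u (by omega) (by omega)
  rcases Nat.lt_or_ge u 163840 with h | h
  · exact allB_spec _ _ _ r_159 u (by omega) (by omega)
  rcases Nat.lt_or_ge u 164864 with h | h
  · exact allB_spec _ _ _ r_160 u (by omega) (by omega)
  rcases Nat.lt_or_ge u 165888 with h | h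
  · exact allB_spec _ _ _ r_161 u (by omega) (by omega)
  rcases Nat.lt_or_ge u 166912 with h | h
  · exact allB_spec _ _ _ r_162 u (by omega) (by omega)
  rcases Nat.lt_or_ge u 167936 with h | h
  · exact allB_spec _ _ _ r_163 u (by omega) (by omega)
  rcases Nat.lt_or_ge u 168960 with h | h
  · exact allB_spec _ _ _ r_164 u (by omega) (by omega)
  rcases Nat.lt_or_ge u 169984 with h | h
  · exact allB_spec _ _ _ r_165 u (by omega) (by omega)
  rcases Nat.lt_or_ge u 171008 with h | h
  · exact allB_spec _ _ _ r_166 u (by omega) (by omega)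
  rcases Nat.lt_or_ge u 172032 with h | h
  · exact allB_spec _ _ _ r_167 u (by omega) (by omega)
  rcases Nat.lt_or_ge u 173056 with h | h
  · exact allB_spec _ _ _ r_168 u (by omega) (by omega)
  rcases Nat.lt_or_ge u 174080 with h | h
  · exact allB_spec _ _ _ r_169 u (by omega) (by omega)
  rcases Nat.lt_or_ge u 175104 with h | h
  · exact allB_spec _ _ _ r_170 u (by omega) (by omega)
  rcases Nat.lt_or_ge u 176128 with h | h
  · exact allB_spec _ _ _ r_171 u (by omega) (by omega)
  rcases Nat.lt_or_ge u 177152 with h | h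
  · exact allB_spec _ _ _ r_172 u (by omega) (by omega)
  rcases Nat.lt_or_ge u 178176 with h | h
  · exact allB_spec _ _ _ r_173 u (by omega) (by omega)
  rcases Nat.lt_or_ge u 179200 with h | h
  · exact allB_spec _ _ _ r_174 u (by omega) (by omega)
  rcases Nat.lt_or_ge u 180224 with h | h
  · exact allB_spec _ _ _ r_175 u (by omega) (by omega)
  rcases Nat.lt_or_ge u 181248 with h | h
  · exact allB_spec _ _ _ r_176 u (by omega) (by omega)
  rcases Nat.lt_or_ge u 182272 with h | h
  · exact allB_spec _ _ _ r_177 u (by omega) (by omega)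
  rcases Nat.lt_or_ge u 183296 with h | h
  · exact allB_spec _ _ _ r_178 u (by omega) (by omega)
  rcases Nat.lt_or_ge u 184320 with h | h
  · exact allB_spec _ _ _ r_179 u (by omega) (by omega)
  rcases Nat.lt_or_ge u 185344 with h | h
  · exact allB_spec _ _ _ r_180 u (by omega) (by omega)
  rcases Nat.lt_or_ge u 186368 with h | h
  · exact allB_spec _ _ _ r_181 u (by omega) (by omega)
  rcases Nat.lt_or_ge u 187392 with h | h
  · exact allB_spec _ _ _ r_182 u (by omega) (by omega)
  rcases Nat.lt_or_ge u 188416 with h | h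
  · exact allB_spec _ _ _ r_183 u (by omega) (by omega)
  rcases Nat.lt_or_ge u 189440 with h | h
  · exact allB_spec _ _ _ r_184 u (by omega) (by omega)
  rcases Nat.lt_or_ge u 190464 with h | h
  · exact allB_spec _ _ _ r_185 u (by omega) (by omega)
  rcases Nat.lt_or_ge u 191488 with h | h
  · exact allB_spec _ _ _ r_186 u (by omega) (by omega)
  rcases Nat.lt_or_ge u 192512 with h | h
  · exact allB_spec _ _ _ r_187 u (by omega) (by omega)
  rcases Nat.lt_or_ge u 193536 with h | h
  · exact allB_spec _ _ _ r_188 u (by omega) (by omega)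
  rcases Nat.lt_or_ge u 194560 with h | h
  · exact allB_spec _ _ _ r_189 u (by omega) (by omega)
  rcases Nat.lt_or_ge u 195584 with h | h
  · exact allB_spec _ _ _ r_190 u (by omega) (by omega)
  rcases Nat.lt_or_ge u 196608 with h | h
  · exact allB_spec _ _ _ r_191 u (by omega) (by omega)
  rcases Nat.lt_or_ge u 197632 with h | h
  · exact allB_spec _ _ _ r_192 u (by omega) (by omega)
  rcases Nat.lt_or_ge u 198656 with h | h
  · exact allB_spec _ _ _ r_193 u (by omega) (by omega)
  rcases Nat.lt_or_ge u 199680 with h | h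
  · exact allB_spec _ _ _ r_194 u (by omega) (by omega)
  rcases Nat.lt_or_ge u 200704 with h | h
  · exact allB_spec _ _ _ r_195 u (by omega) (by omega)
  rcases Nat.lt_or_ge u 201728 with h | h
  · exact allB_spec _ _ _ r_196 u (by omega) (by omega)
  rcases Nat.lt_or_ge u 202752 with h | h
  · exact allB_spec _ _ _ r_197 u (by omega) (by omega)
  rcases Nat.lt_or_ge u 203776 with h | h
  · exact allB_spec _ _ _ r_198 u (by omega) (by omega)
  rcases Nat.lt_or_ge u 204800 with h | h
  · exact allB_spec _ _ _ r_199 u (by omega) (by omega)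
  rcases Nat.lt_or_ge u 205824 with h | h
  · exact allB_spec _ _ _ r_200 u (by omega) (by omega)
  rcases Nat.lt_or_ge u 206848 with h | h
  · exact allB_spec _ _ _ r_201 u (by omega) (by omega)
  rcases Nat.lt_or_ge u 207872 with h | h
  · exact allB_spec _ _ _ r_202 u (by omega) (by omega)
  rcases Nat.lt_or_ge u 208896 with h | h
  · exact allB_spec _ _ _ r_203 u (by omega) (by omega)
  rcases Nat.lt_or_ge u 209920 with h | h
  · exact allB_spec _ _ _ r_204 u (by omega) (by omega)
  rcases Nat.lt_or_ge u 210944 with h | h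
  · exact allB_spec _ _ _ r_205 u (by omega) (by omega)
  rcases Nat.lt_or_ge u 211968 with h | h
  · exact allB_spec _ _ _ r_206 u (by omega) (by omega)
  rcases Nat.lt_or_ge u 212992 with h | h
  · exact allB_spec _ _ _ r_207 u (by omega) (by omega)
  rcases Nat.lt_or_ge u 214016 with h | h
  · exact allB_spec _ _ _ r_208 u (by omega) (by omega)
  rcases Nat.lt_or_ge u 215040 with h | h
  · exact allB_spec _ _ _ r_209 u (by omega) (by omega)
  rcases Nat.lt_or_ge u 216064 with h | h
  · exact allB_spec _ _ _ r_210 u (by omega) (by omega)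
  rcases Nat.lt_or_ge u 217088 with h | h
  · exact allB_spec _ _ _ r_211 u (by omega) (by omega)
  rcases Nat.lt_or_ge u 218112 with h | h
  · exact allB_spec _ _ _ r_212 u (by omega) (by omega)
  rcases Nat.lt_or_ge u 219136 with h | h
  · exact allB_spec _ _ _ r_213 u (by omega) (by omega)
  rcases Nat.lt_or_ge u 220160 with h | h
  · exact allB_spec _ _ _ r_214 u (by omega) (by omega)
  rcases Nat.lt_or_ge u 221184 with h | h
  · exact allB_spec _ _ _ r_215 u (by omega) (by omega)
  rcases Nat.lt_or_ge u 222208 with h | h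
  · exact allB_spec _ _ _ r_216 u (by omega) (by omega)
  rcases Nat.lt_or_ge u 223232 with h | h
  · exact allB_spec _ _ _ r_217 u (by omega) (by omega)
  rcases Nat.lt_or_ge u 224256 with h | h
  · exact allB_spec _ _ _ r_218 u (by omega) (by omega)
  rcases Nat.lt_or_ge u 225280 with h | h
  · exact allB_spec _ _ _ r_219 u (by omega) (by omega)
  rcases Nat.lt_or_ge u 226304 with h | h
  · exact allB_spec _ _ _ r_220 u (by omega) (by omega)
  rcases Nat.lt_or_ge u 227328 with h | h
  · exact allB_spec _ _ _ r_221 u (by omega) (by omega)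
  rcases Nat.lt_or_ge u 228352 with h | h
  · exact allB_spec _ _ _ r_222 u (by omega) (by omega)
  rcases Nat.lt_or_ge u 229376 with h | h
  · exact allB_spec _ _ _ r_223 u (by omega) (by omega)
  rcases Nat.lt_or_ge u 230400 with h | h
  · exact allB_spec _ _ _ r_224 u (by omega) (by omega)
  rcases Nat.lt_or_ge u 231424 with h | h
  · exact allB_spec _ _ _ r_225 u (by omega) (by omega)
  rcases Nat.lt_or_ge u 232448 with h | h
  · exact allB_spec _ _ _ r_226 u (by omega) (by omega)
  rcases Nat.lt_or_ge u 233472 with h | h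
  · exact allB_spec _ _ _ r_227 u (by omega) (by omega)
  rcases Nat.lt_or_ge u 234496 with h | h
  · exact allB_spec _ _ _ r_228 u (by omega) (by omega)
  rcases Nat.lt_or_ge u 235520 with h | h
  · exact allB_spec _ _ _ r_229 u (by omega) (by omega)
  rcases Nat.lt_or_ge u 236544 with h | h
  · exact allB_spec _ _ _ r_230 u (by omega) (by omega)
  rcases Nat.lt_or_ge u 237568 with h | h
  · exact allB_spec _ _ _ r_231 u (by omega) (by omega)
  rcases Nat.lt_or_ge u 238592 with h | h
  · exact allB_spec _ _ _ r_232 u (by omega) (by omega)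
  rcases Nat.lt_or_ge u 239616 with h | h
  · exact allB_spec _ _ _ r_233 u (by omega) (by omega)
  rcases Nat.lt_or_ge u 240640 with h | h
  · exact allB_spec _ _ _ r_234 u (by omega) (by omega)
  rcases Nat.lt_or_ge u 241664 with h | h
  · exact allB_spec _ _ _ r_235 u (by omega) (by omega)
  rcases Nat.lt_or_ge u 242688 with h | h
  · exact allB_spec _ _ _ r_236 u (by omega) (by omega)
  rcases Nat.lt_or_ge u 243712 with h | h
  · exact allB_spec _ _ _ r_237 u (by omega) (by omega)
  rcases Nat.lt_or_ge u 244736 with h | h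
  · exact allB_spec _ _ _ r_238 u (by omega) (by omega)
  rcases Nat.lt_or_ge u 245760 with h | h
  · exact allB_spec _ _ _ r_239 u (by omega) (by omega)
  rcases Nat.lt_or_ge u 246784 with h | h
  · exact allB_spec _ _ _ r_240 u (by omega) (by omega)
  rcases Nat.lt_or_ge u 247808 with h | h
  · exact allB_spec _ _ _ r_241 u (by omega) (by omega)
  rcases Nat.lt_or_ge u 248832 with h | h
  · exact allB_spec _ _ _ r_242 u (by omega) (by omega)
  rcases Nat.lt_or_ge u 249856 with h | h
  · exact allB_spec _ _ _ r_243 u (by omega) (by omega)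
  rcases Nat.lt_or_ge u 250880 with h | h
  · exact allB_spec _ _ _ r_244 u (by omega) (by omega)
  rcases Nat.lt_or_ge u 251904 with h | h
  · exact allB_spec _ _ _ r_245 u (by omega) (by omega)
  rcases Nat.lt_or_ge u 252928 with h | h
  · exact allB_spec _ _ _ r_246 u (by omega) (by omega)
  rcases Nat.lt_or_ge u 253952 with h | h
  · exact allB_spec _ _ _ r_247 u (by omega) (by omega)
  rcases Nat.lt_or_ge u 254976 with h | h
  · exact allB_spec _ _ _ r_248 u (by omega) (by omega)
  rcases Nat.lt_or_ge u 256000 with h | h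
  · exact allB_spec _ _ _ r_249 u (by omega) (by omega)
  rcases Nat.lt_or_ge u 257024 with h | h
  · exact allB_spec _ _ _ r_250 u (by omega) (by omega)
  rcases Nat.lt_or_ge u 258048 with h | h
  · exact allB_spec _ _ _ r_251 u (by omega) (by omega)
  rcases Nat.lt_or_ge u 259072 with h | h
  · exact allB_spec _ _ _ r_252 u (by omega) (by omega)
  rcases Nat.lt_or_ge u 260096 with h | h
  · exact allB_spec _ _ _ r_253 u (by omega) (by omega)
  rcases Nat.lt_or_ge u 261120 with h | h
  · exact allB_spec _ _ _ r_254 u (by omega) (by omega)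
  rcases Nat.lt_or_ge u 262144 with h | h
  · exact allB_spec _ _ _ r_255 u (by omega) (by omega)
  rcases Nat.lt_or_ge u 263168 with h | h
  · exact allB_spec _ _ _ r_256 u (by omega) (by omega)
  rcases Nat.lt_or_ge u 264192 with h | h
  · exact allB_spec _ _ _ r_257 u (by omega) (by omega)
  rcases Nat.lt_or_ge u 265216 with h | h
  · exact allB_spec _ _ _ r_258 u (by omega) (by omega)
  rcases Nat.lt_or_ge u 266240 with h | h
  · exact allB_spec _ _ _ r_259 u (by omega) (by omega)
  rcases Nat.lt_or_ge u 267264 with h | h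
  · exact allB_spec _ _ _ r_260 u (by omega) (by omega)
  rcases Nat.lt_or_ge u 268288 with h | h
  · exact allB_spec _ _ _ r_261 u (by omega) (by omega)
  rcases Nat.lt_or_ge u 269312 with h | h
  · exact allB_spec _ _ _ r_262 u (by omega) (by omega)
  rcases Nat.lt_or_ge u 270336 with h | h
  · exact allB_spec _ _ _ r_263 u (by omega) (by omega)
  rcases Nat.lt_or_ge u 271360 with h | h
  · exact allB_spec _ _ _ r_264 u (by omega) (by omega)
  rcases Nat.lt_or_ge u 272384 with h | h
  · exact allB_spec _ _ _ r_265 u (by omega) (by omega)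
  rcases Nat.lt_or_ge u 273408 with h | h
  · exact allB_spec _ _ _ r_266 u (by omega) (by omega)
  rcases Nat.lt_or_ge u 274432 with h | h
  · exact allB_spec _ _ _ r_267 u (by omega) (by omega)
  rcases Nat.lt_or_ge u 275456 with h | h
  · exact allB_spec _ _ _ r_268 u (by omega) (by omega)
  rcases Nat.lt_or_ge u 276480 with h | h
  · exact allB_spec _ _ _ r_269 u (by omega) (by omega)
  rcases Nat.lt_or_ge u 277504 with h | h
  · exact allB_spec _ _ _ r_270 u (by omega) (by omega)
  rcases Nat.lt_or_ge u 278528 with h | h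
  · exact allB_spec _ _ _ r_271 u (by omega) (by omega)
  rcases Nat.lt_or_ge u 279552 with h | h
  · exact allB_spec _ _ _ r_272 u (by omega) (by omega)
  rcases Nat.lt_or_ge u 280576 with h | h
  · exact allB_spec _ _ _ r_273 u (by omega) (by omega)
  rcases Nat.lt_or_ge u 281600 with h | h
  · exact allB_spec _ _ _ r_274 u (by omega) (by omega)
  rcases Nat.lt_or_ge u 282624 with h | h
  · exact allB_spec _ _ _ r_275 u (by omega) (by omega)
  rcases Nat.lt_or_ge u 283648 with h | h
  · exact allB_spec _ _ _ r_276 u (by omega) (by omega)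
  rcases Nat.lt_or_ge u 284672 with h | h
  · exact allB_spec _ _ _ r_277 u (by omega) (by omega)
  rcases Nat.lt_or_ge u 285696 with h | h
  · exact allB_spec _ _ _ r_278 u (by omega) (by omega)
  rcases Nat.lt_or_ge u 286720 with h | h
  · exact allB_spec _ _ _ r_279 u (by omega) (by omega)
  rcases Nat.lt_or_ge u 287744 with h | h
  · exact allB_spec _ _ _ r_280 u (by omega) (by omega)
  rcases Nat.lt_or_ge u 288768 with h | h
  · exact allB_spec _ _ _ r_281 u (by omega) (by omega)
  rcases Nat.lt_or_ge u 289792 with h | h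
  · exact allB_spec _ _ _ r_282 u (by omega) (by omega)
  rcases Nat.lt_or_ge u 290816 with h | h
  · exact allB_spec _ _ _ r_283 u (by omega) (by omega)
  rcases Nat.lt_or_ge u 291840 with h | h
  · exact allB_spec _ _ _ r_284 u (by omega) (by omega)
  rcases Nat.lt_or_ge u 292864 with h | h
  · exact allB_spec _ _ _ r_285 u (by omega) (by omega)
  rcases Nat.lt_or_ge u 293888 with h | h
  · exact allB_spec _ _ _ r_286 u (by omega) (by omega)
  rcases Nat.lt_or_ge u 294912 with h | h
  · exact allB_spec _ _ _ r_287 u (by omega) (by omega)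
  rcases Nat.lt_or_ge u 295936 with h | h
  · exact allB_spec _ _ _ r_288 u (by omega) (by omega)
  rcases Nat.lt_or_ge u 296960 with h | h
  · exact allB_spec _ _ _ r_289 u (by omega) (by omega)
  rcases Nat.lt_or_ge u 297984 with h | h
  · exact allB_spec _ _ _ r_290 u (by omega) (by omega)
  rcases Nat.lt_or_ge u 299008 with h | h
  · exact allB_spec _ _ _ r_291 u (by omega) (by omega)
  rcases Nat.lt_or_ge u 300032 with h | h
  · exact allB_spec _ _ _ r_292 u (by omega) (by omega)
  rcases Nat.lt_or_ge u 301056 with h | h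
  · exact allB_spec _ _ _ r_293 u (by omega) (by omega)
  rcases Nat.lt_or_ge u 302080 with h | h
  · exact allB_spec _ _ _ r_294 u (by omega) (by omega)
  rcases Nat.lt_or_ge u 303104 with h | h
  · exact allB_spec _ _ _ r_295 u (by omega) (by omega)
  rcases Nat.lt_or_ge u 304128 with h | h
  · exact allB_spec _ _ _ r_296 u (by omega) (by omega)
  rcases Nat.lt_or_ge u 305152 with h | h
  · exact allB_spec _ _ _ r_297 u (by omega) (by omega)
  rcases Nat.lt_or_ge u 306176 with h | h
  · exact allB_spec _ _ _ r_298 u (by omega) (by omega)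
  rcases Nat.lt_or_ge u 307200 with h | h
  · exact allB_spec _ _ _ r_299 u (by omega) (by omega)
  rcases Nat.lt_or_ge u 308224 with h | h
  · exact allB_spec _ _ _ r_300 u (by omega) (by omega)
  omega
/-- **certificate**: in any group `G` with elements `g` satisfying the relators `rels`, a subgroup `H` containing
the words `subs` has relative index at most 306936 in the subgroup generated by `g`. -/
theorem main {G : Type} [Group G] {g : Lt → G} {H : Subgroup G} (hinv : ∀ x, g (inv x) = (g x)⁻¹)
    (hp : ∀ x y, (g x * g y) ^ mm x y = 1) (he : ∀ p ∈ extra, ((p.1.map g).prod) ^ p.2 = 1)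
    (hH : ∀ r ∈ subs, (r.map g).prod ∈ H) :
    H.relIndex (Subgroup.closure (Set.range g)) ≤ 306936 ∧ H.relIndex (Subgroup.closure (Set.range g)) ≠ 0 :=
  final hinv (mkRels_ok hp he) hH all_nodes cnt_live
end H35.TCF24A
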