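import Mathlib
import Cfsg.Agent.Lib.H35.StemFin
import Cfsg.Agent.Lib.H40.OutM23
import Cfsg.Agent.Lib.H35.TCM23A
import Cfsg.Agent.Lib.H35.TCM23B

set_option autoImplicit false
set_option maxRecDepth 100000
set_option linter.all false

namespace H35.MulM23
open Subgroup H35.Stem H35.TC H40.PermCode H40.MathieuBase H40.OutM23

abbrev X := Fin 4

/-- exponents of the letters -/
def nn : X → ℕ := ![23, 11, 5, 5]

/-- codes -/
def code : X → ℕ := ![0xb82d5a4e5183dcd62d4941cc520c41, 0xbd6717b56939461b52507314831040, 0xbae75734e2a3d8354606b24b222020, 0xbbd55a48e92ce025b8c1b122d18188]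
def codei : X → ℕ := ![0xbd6939460f7358b525073148310416, 0xbaecaaa68899e468960478dc268580, 0xb9e8fa914974e4db2cc28a0a364020, 0xb9e93748adb28815d6008a5e61b102]
theorem okk : ∀ x, okc 5 24 (code x) (codei x) = true := by intro x; fin_cases x <;> decide +kernel
noncomputable def perm (x : X) : Equiv.Perm Cfsg.GolayPt := ofCode E24 5 (code x) (codei x) (okk x)
theorem rep_c (x : X) : Rep E24 5 (perm x) (code x) := rep_ofCode _
theorem rep_ci (x : X) : Rep E24 5 (perm x)⁻¹ (codei x) := rep_ofCode_inv _
theorem mem (x : X) : perm x ∈ Cfsg.Spor.M23 := by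
  refine mem23_of_rep (rep_c x) ?_ ?_ <;> fin_cases x <;> decide +kernel
noncomputable def g (x : X) : Cfsg.Spor.M23 := ⟨perm x, mem x⟩
theorem tr {w : W X} (h : isOne 5 24 (evc 5 24 code codei w) = true) : ev g w = 1 :=
  ev_one_of_code hn24 (g := g) rep_c rep_ci h
theorem hord (x : X) : g x ^ nn x = 1 := by
  have h : ∀ x, isOne 5 24 (evc 5 24 code codei (rep [(x, true)] (nn x))) = true := by intro x; fin_cases x <;> decide +kernel
  have h1 := tr (h x)
  rw [ev_rep] at h1
  change (g x * 1) ^ nn x = 1 at h1
  rwa [mul_one] at h1

theorem hn : ∀ x, Nat.Coprime (nn x) 6 := by decide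

/-- letters of level A -/
def SA : X → Bool := ![true, true, true, true]

/-- lower letters of level A -/
def TA : X → Bool := ![false, true, true, true]

def wdA : TCM23A.Lt → W X
  | .a => [(0, true)]
  | .ai => [(0, false)]
  | .b => [(1, true)]
  | .bi => [(1, false)]
  | .d => [(2, true)]
  | .di => [(2, false)]
  | .e => [(3, true)]
  | .ei => [(3, false)]

def rulesA : List (Rule X) := [
  .conj [(1, true)] [(0, false)] [(0, false), (0, false)] 23,
  .conj [(1, true), (0, true), (1, false)] [(0, false)] [(0, false)] 23,
  .conj [(0, true)] [(3, true)] [(1, true), (2, true), (3, false), (2, true), (2, true), (1, true)] 5,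
  .conj [(0, true)] [(3, true)] [(2, false), (1, true), (3, true), (3, true), (1, true), (2, true)] 5,
  .conj [(1, false), (1, false), (1, false)] [(0, false)] [(0, false), (0, false), (0, false)] 23,
  .conj [(2, true), (1, false), (2, false)] [(0, false)] [(0, false), (0, false), (0, false)] 23,
  .conj [(0, false), (3, true), (0, false)] [(3, false)] [(1, true), (3, false), (1, false)] 5,
  .conj [(0, true)] [(3, true)] [(3, false), (2, false), (1, true), (2, true), (3, false), (1, false), (1, false)] 5,
  .conj [(0, true)] [(3, true)] [(3, false), (1, false), (2, true), (1, false), (3, true), (2, true), (1, false)] 5,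
  .conj [(0, true), (3, true), (0, false)] [(2, true), (2, true)] [(3, false), (2, false)] 5,
  .conj [(0, true)] [(3, true)] [(3, true), (1, true), (3, true), (3, true), (2, true), (1, true), (3, false)] 5,
  .conj [(0, true)] [(3, true)] [(3, true), (1, true), (3, true), (1, false), (2, false), (3, false), (3, false)] 5,
  .conj [(0, true)] [(3, true)] [(3, false), (1, false), (2, false), (2, false), (3, false), (2, false), (3, true)] 5,
  .conj [(0, true)] [(3, true)] [(2, true), (1, true), (3, true), (2, false), (3, false), (2, false), (3, true)] 5,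
  .conj [(0, true)] [(3, true), (3, true)] [(1, false), (3, false), (3, false), (1, true), (2, true), (1, true)] 5,
  .conj [(0, true)] [(3, true), (3, true)] [(2, false), (3, false), (2, true), (3, true), (2, true), (1, true)] 5,
  .conj [(0, true)] [(3, true), (3, true)] [(1, true), (2, false), (1, false), (3, true), (1, false), (2, false)] 5,
  .conj [(0, true)] [(3, true), (3, true)] [(2, false), (1, true), (1, true), (3, true), (1, false), (2, false)] 5,
  .conj [(0, true)] [(3, true), (3, true)] [(1, true), (1, true), (3, false), (2, false), (3, false), (2, false)] 5,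
  .conj [(0, true)] [(3, true), (3, true)] [(2, false), (3, false), (1, false), (1, false), (1, false), (3, false)] 5,
  .conj [(0, true)] [(3, true), (3, true)] [(1, true), (3, true), (2, true), (1, false), (1, false), (3, false)] 5,
  .conj [(0, true)] [(3, true), (3, true)] [(2, false), (3, false), (2, true), (1, false), (2, false), (3, false)] 5,
  .conj [(0, true)] [(3, true), (3, true)] [(1, false), (3, false), (1, false), (3, true), (2, true), (3, true)] 5,
  .ord 0,
  .ord 2,
  .ord 3,
  .low [(1, true), (1, true), (1, true), (2, true), (1, false), (2, false)],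
  .low [(1, true), (3, true), (2, true), (1, true), (3, true), (2, true)],
  .low [(1, true), (1, true), (1, true), (1, true), (2, false), (1, false), (2, true)],
  .low [(1, true), (1, true), (1, true), (2, false), (1, true), (1, true), (2, true)],
  .low [(1, true), (1, true), (2, true), (2, true), (1, true), (2, false), (2, false)],
  .low [(1, true), (2, true), (1, true), (2, false), (2, false), (1, false), (2, true)],
  .low [(1, true), (2, true), (1, false), (2, true), (1, false), (2, false), (2, false)],
  .low [(1, true), (2, true), (1, true), (2, false), (1, false), (2, true), (1, false), (2, false)],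
  .low [(1, true), (2, true), (1, true), (3, false), (2, false), (3, false), (1, true), (3, false)],
  .low [(1, true), (2, false), (3, false), (2, true), (3, true), (1, false), (3, true), (3, true)],
  .low [(1, true), (3, false), (3, false), (2, false), (1, true), (3, false), (3, false), (2, false)],
  .low [(2, true), (3, false), (2, true), (3, false), (2, true), (3, false), (2, true), (3, false)],
  .ord 1]

def cenA : TCM23A.Lt → Bool
  | _ => false

def CA : CP X TCM23A.Lt where
  iv := fun _ => false
  wd := wdA
  cen := cenA
  q := 6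
  exact := rulesA.map fun r => red (fun _ => false) (r.word nn)

theorem htA : ∀ r ∈ rulesA, ∀ w ∈ r.needs nn, ev g w = 1 := by
  have h : ((rulesA.flatMap (Rule.needs nn)).all fun w => isOne 5 24 (evc 5 24 code codei w)) = true := by decide +kernel
  intro r hr w hw
  exact tr (List.all_eq_true.1 h w (List.mem_flatMap.2 ⟨r, hr, hw⟩))
theorem hcA : ∀ z, CA.cen z = true → ev g (CA.wd z) = 1 := by
  intro z hz
  refine tr ?_
  cases z <;> first | (exact absurd hz (by decide)) | decide +kernel

theorem lvA {Γ : Type} [Group Γ] [Finite Γ] {σ : Γ →* Cfsg.Spor.M23} {f : X → Γ} (h : Lifts σ 6 nn g f) (hi : Inj g f TA) :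
    Nat.card (Kl f SA) ≤ 1288 * Nat.card (Kl f TA) := by
  have hh : CA.Holds f := holds h hi rfl (fun _ h => absurd (show false = true from h) (by decide)) rfl (by decide +kernel) htA hcA
  obtain ⟨hinv, hrel⟩ := CP.relOK hh (inv := TCM23A.inv) (mm := TCM23A.mm) (ex := TCM23A.extra) (by intro x; cases x <;> decide +kernel)
    (by intro x y; cases x <;> cases y <;> decide +kernel) (by decide +kernel)
  exact level (subs := TCM23A.subs) (fun H hH => TCM23A.main hinv hrel.1 hrel.2 hH) (by decide +kernel) (by
    intro x hx
    fin_cases x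
    · exact ⟨.a, rfl⟩
    · exact ⟨.b, rfl⟩
    · exact ⟨.d, rfl⟩
    · exact ⟨.e, rfl⟩)

/-- letters of level B -/
def SB : X → Bool := ![false, true, true, true]

/-- lower letters of level B -/
def TB : X → Bool := ![false, true, false, false]

def wdB : TCM23B.Lt → W X
  | .b => [(1, true)]
  | .bi => [(1, false)]
  | .d => [(2, true)]
  | .di => [(2, false)]
  | .e => [(3, true)]
  | .ei => [(3, false)]
  | .z => [(1, true), (3, true), (2, true), (1, true), (3, true), (2, true)]
  | .zi => [(2, false), (3, false), (1, false), (2, false), (3, false), (1, false)]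

def rulesB : List (Rule X) := [
  .ord 2,
  .ord 3,
  .conj [(2, true)] [(1, false)] [(1, false), (1, false), (1, false)] 11,
  .conj [(2, false)] [(1, false)] [(1, false), (1, false), (1, false), (1, false)] 11,
  .conj [(2, false)] [(1, true), (1, true)] [(1, false), (1, false), (1, false)] 11,
  .conj [(2, true), (2, true)] [(1, true)] [(1, false), (1, false)] 11,
  .conj [(2, true), (1, true), (2, false)] [(1, false)] [(1, false)] 11,
  .conj [(2, true), (1, true), (2, true)] [(1, true)] [(1, false), (1, false)] 11,
  .conj [(2, true), (1, false), (2, true)] [(1, true)] [(1, false), (1, false)] 11,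
  .conj [(2, true), (1, true), (1, true), (2, true)] [(1, true)] [(1, false), (1, false)] 11,
  .conj [(2, false), (1, false), (2, false), (3, false), (2, true)] [(3, true)] [(3, false)] 5,
  .conj [(1, true), (3, false), (1, false), (3, true), (1, true)] [(3, false)] [(2, false)] 5,
  .conj [(1, false), (3, true), (1, false), (1, false), (3, false)] [(2, false), (2, false)] [(2, false)] 5,
  .conj [(1, false), (3, true), (1, false), (1, false), (3, false)] [(2, true)] [(2, false), (2, false)] 5,
  .conj [(1, true), (3, true), (2, false), (1, false), (2, true)] [(3, true)] [(3, false), (3, false)] 5,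
  .conj [(1, false), (2, true), (1, false), (3, true), (2, true)] [(3, false)] [(3, false), (3, false)] 5,
  .conj [(1, false), (2, false), (3, true), (1, true), (3, true)] [(2, false), (2, false)] [(3, false)] 5,
  .conj [(3, false), (1, false), (3, false), (2, true), (1, true)] [(3, true), (3, true)] [(2, false)] 5,
  .ord 1]

def cenB : TCM23B.Lt → Bool
  | .z => true
  | .zi => true
  | _ => false

def CB : CP X TCM23B.Lt where
  iv := fun _ => false
  wd := wdB
  cen := cenB
  q := 6
  exact := rulesB.map fun r => red (fun _ => false) (r.word nn)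

theorem htB : ∀ r ∈ rulesB, ∀ w ∈ r.needs nn, ev g w = 1 := by
  have h : ((rulesB.flatMap (Rule.needs nn)).all fun w => isOne 5 24 (evc 5 24 code codei w)) = true := by decide +kernel
  intro r hr w hw
  exact tr (List.all_eq_true.1 h w (List.mem_flatMap.2 ⟨r, hr, hw⟩))
theorem hcB : ∀ z, CB.cen z = true → ev g (CB.wd z) = 1 := by
  intro z hz
  refine tr ?_
  cases z <;> first | (exact absurd hz (by decide)) | decide +kernel

theorem lvB {Γ : Type} [Group Γ] [Finite Γ] {σ : Γ →* Cfsg.Spor.M23} {f : X → Γ} (h : Lifts σ 6 nn g f) (hi : Inj g f TB) :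
    Nat.card (Kl f SB) ≤ 720 * Nat.card (Kl f TB) := by
  have hh : CB.Holds f := holds h hi rfl (fun _ h => absurd (show false = true from h) (by decide)) rfl (by decide +kernel) htB hcB
  obtain ⟨hinv, hrel⟩ := CP.relOK hh (inv := TCM23B.inv) (mm := TCM23B.mm) (ex := TCM23B.extra) (by intro x; cases x <;> decide +kernel)
    (by intro x y; cases x <;> cases y <;> decide +kernel) (by decide +kernel)
  exact level (subs := TCM23B.subs) (fun H hH => TCM23B.main hinv hrel.1 hrel.2 hH) (by decide +kernel) (by
    intro x hx
    fin_cases x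
    · exact absurd hx (by decide)
    · exact ⟨.b, rfl⟩
    · exact ⟨.d, rfl⟩
    · exact ⟨.e, rfl⟩)

theorem gen : Kl g SA = ⊤ := by
  rw [eq_top_iff, ← H40.OutM23.gen, closure_le]
  intro x hx
  rcases hx with rfl | rfl | rfl
  · exact mem_Kl (f := g) (x := 0) (by decide)
  · exact mem_Kl (f := g) (x := 1) (by decide)
  · exact mem_Kl (f := g) (x := 2) (by decide)
theorem card_top : Nat.card (Kl g SA) = 10200960 := by
  rw [gen, Nat.card_congr (Subgroup.topEquiv (G := Cfsg.Spor.M23)).toEquiv, H40.OutM23.card_M23]
theorem bound (Γ : Type) [Group Γ] [Finite Γ] (σ : Γ →* Cfsg.Spor.M23) (f : X → Γ) (h : Lifts σ 6 nn g f) :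
    Nat.card (Kl f SA) ≤ 10200960 := by
  have g1 := lvA (Lifts.self hord) (Inj.self TA)
  have g2 := lvB (Lifts.self hord) (Inj.self TB)
  rw [card_top] at g1
  have e1 : Kl f TA = Kl f SB := by congr 1
  have e2 : Kl g TA = Kl g SB := by congr 1
  have c1 : Nat.card (Kl f TB) ≤ 11 := card_Kl_one (x0 := 1) (by decide) (by norm_num) (h.ord 1)
  have f2 := lvB h (h.inj_one hn (x0 := 1) (by decide))
  have i1 : Inj g f TA := h.inj (by rw [e1, e2]; rw [e2] at g1; omega)
  have f1 := lvA h i1
  rw [e1] at f1
  omega
theorem noExt2 : NoExt Cfsg.Spor.M23 2 := noExt_of_bound (q := 6) (by norm_num) hord hn gen bound (by rw [H40.OutM23.card_M23]; norm_num)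
theorem noExt3 : NoExt Cfsg.Spor.M23 3 := noExt_of_bound (q := 6) (by norm_num) hord hn gen bound (by rw [H40.OutM23.card_M23]; norm_num)
theorem mult : Cfsg.HasCyclicSchurMultiplier Cfsg.Spor.M23 1 := by
  refine hasCyclic_one_list [(2, 7), (3, 2), (5, 1), (7, 1), (11, 1), (23, 1)] (by decide +kernel) (by rw [H40.OutM23.card_M23]; norm_num) ?_
  intro a ha
  fin_cases ha
  · exact Or.inl noExt2
  · exact Or.inl noExt3
  all_goals exact Or.inr (by rw [H40.OutM23.card_M23]; norm_num)

end H35.MulM23
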