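import Mathlib
import Cfsg.Agent.Lib.H35.StemLevel
import Cfsg.Agent.Lib.H35.NetKit

/-!
# Letters with permutation networks; relators checked with the networks
-/

set_option autoImplicit false

namespace H35.Stem

open Subgroup H35.Net

section flat

variable {X L G : Type} [Group G]

/-- the networks `netX` compute the action of the letters `∏ d x` and of their inverses -/
def LetNet (k : ℕ) (φ : G →* Equiv.Perm ℕ) (g : X → G) (netX : X × Bool → ℕ → ℕ) : Prop :=
  ∀ a, BP (2 ^ k) (netX a) (φ (el g a))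

/-- mixed network -/
noncomputable def netS (net : L → ℕ → ℕ) (netX : X × Bool → ℕ → ℕ) (a : L ⊕ (X × Bool)) : ℕ → ℕ :=
  Sum.rec (motive := fun _ => ℕ → ℕ) net netX a

theorem letNet_of {k : ℕ} {φ : G →* Equiv.Perm ℕ} {f : L → G} {d : X → List L} {net : L → ℕ → ℕ}
    {netX : X × Bool → ℕ → ℕ} (hbp : ∀ x, BP (2 ^ k) (net x) (φ (f x)))
    (hbx : ∀ a, ∃ ρ : Equiv.Perm ℕ, BP (2 ^ k) (netX a) ρ)
    (h1 : ∀ x, chkW netX k [(x, true), (x, false)] 1 0 k = true)
    (h2 : ∀ x, chkW (netS net netX) k ((d x).map Sum.inl ++ [Sum.inr (x, false)]) 1 0 k = true) :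
    LetNet k φ (fun x => ((d x).map f).prod) netX := by
  choose ρ hρ using hbx
  have hb : ∀ a : L ⊕ (X × Bool), BP (2 ^ k) (netS net netX a) (Sum.elim (fun x => φ (f x)) ρ a) := by
    intro a
    cases a with
    | inl x => exact hbp x
    | inr a => exact hρ a
  have key : ∀ x, ρ (x, true) = φ ((d x).map f).prod ∧ ρ (x, false) = (φ ((d x).map f).prod)⁻¹ := by
    intro x
    have e1 := pow_eq_one_of_chk hρ (h1 x)
    have e2 := pow_eq_one_of_chk hb (h2 x)
    rw [pow_one] at e1 e2
    rw [List.map_append, List.prod_append, List.map_map] at e2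
    have e3 : (List.map (Sum.elim (fun x => φ (f x)) ρ ∘ Sum.inl) (d x)).prod = φ ((d x).map f).prod := by
      rw [map_list_prod, List.map_map]
      rfl
    rw [e3] at e2
    simp only [List.map_cons, List.map_nil, List.prod_cons, List.prod_nil, mul_one, Sum.elim_inr] at e1 e2
    have e4 : ρ (x, false) = (φ ((d x).map f).prod)⁻¹ := (eq_inv_of_mul_eq_one_right e2)
    refine ⟨?_, e4⟩
    rw [e4] at e1
    exact mul_inv_eq_one.1 e1
  rintro ⟨x, b⟩
  cases b
  · have := hρ (x, false)
    rw [(key x).2] at this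
    change BP (2 ^ k) (netX (x, false)) (φ ((((d x).map f).prod)⁻¹))
    rw [map_inv]
    exact this
  · have := hρ (x, true)
    rw [(key x).1] at this
    exact this

theorem LetNet.pow_one {k : ℕ} {φ : G →* Equiv.Perm ℕ} {g : X → G} {netX : X × Bool → ℕ → ℕ}
    (h : LetNet k φ g netX) (hφ : Function.Injective φ) {w : W X} {m : ℕ} (hc : chkW netX k w m 0 k = true) :
    (ev g w) ^ m = 1 := by
  apply hφ
  have h1 := pow_eq_one_of_chk h hc
  rw [map_one, map_pow, ev, map_list_prod, List.map_map, ← h1]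
  rfl

theorem LetNet.rep_one {k : ℕ} {φ : G →* Equiv.Perm ℕ} {g : X → G} {netX : X × Bool → ℕ → ℕ}
    (h : LetNet k φ g netX) (hφ : Function.Injective φ) {w : W X} {m : ℕ} (hc : chkW netX k w m 0 k = true) :
    ev g (rep w m) = 1 := by
  rw [ev_rep]
  exact h.pow_one hφ hc

theorem LetNet.ev_one {k : ℕ} {φ : G →* Equiv.Perm ℕ} {g : X → G} {netX : X × Bool → ℕ → ℕ}
    (h : LetNet k φ g netX) (hφ : Function.Injective φ) {w : W X} (hc : chkW netX k w 1 0 k = true) :
    ev g w = 1 := by
  have := h.pow_one hφ hc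
  rwa [_root_.pow_one] at this

/-- a generator is a word in the letters -/
theorem LetNet.gen {k : ℕ} {φ : G →* Equiv.Perm ℕ} {g : X → G} {netX : X × Bool → ℕ → ℕ}
    (h : LetNet k φ g netX) (hφ : Function.Injective φ) {f : L → G} {net : L → ℕ → ℕ}
    (hbp : ∀ x, BP (2 ^ k) (net x) (φ (f x))) {a : L} {w : W X}
    (hc : chkW (netS net netX) k (Sum.inl a :: w.map Sum.inr) 1 0 k = true) : f a = (ev g w)⁻¹ := by
  apply hφ
  have hb : ∀ a : L ⊕ (X × Bool), BP (2 ^ k) (netS net netX a)
      (Sum.elim (fun x => φ (f x)) (fun a => φ (el g a)) a) := by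
    intro a
    cases a with
    | inl x => exact hbp x
    | inr a => exact h a
  have h1 := pow_eq_one_of_chk hb hc
  rw [_root_.pow_one, List.map_cons, List.prod_cons, List.map_map] at h1
  have e3 : (List.map (Sum.elim (fun x => φ (f x)) (fun a => φ (el g a)) ∘ Sum.inr) w).prod = φ (ev g w) := by
    rw [ev, map_list_prod, List.map_map]
    rfl
  rw [e3] at h1
  rw [map_inv]
  exact eq_inv_of_mul_eq_one_left h1

theorem top_of_gens {f : L → G} (hgen : closure (Set.range f) = ⊤) {g : X → G} {S : X → Bool}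
    (h : ∀ a, ∃ w : W X, (w.all fun b => S b.1) = true ∧ f a = (ev g w)⁻¹) : Kl g S = ⊤ := by
  rw [eq_top_iff, ← hgen, closure_le]
  rintro _ ⟨a, rfl⟩
  obtain ⟨w, h1, h2⟩ := h a
  rw [h2]
  exact inv_mem (ev_mem_Kl h1)

/-- check of the facts needed by a rule -/
def Rule.chk [DecidableEq X] (n : X → ℕ) (c : W X → ℕ → Bool) : Rule X → Bool
  | .ord _ => true
  | .low r => c r 1
  | .conj w u v m => c (w ++ (u ++ (winv w ++ winv v))) 1 && (isPow n u m || (isPow n v m || c u m))

theorem Rule.needs_of_chk [DecidableEq X] {n : X → ℕ} {c : W X → ℕ → Bool} {g : X → G}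
    (hc : ∀ w m, c w m = true → (ev g w) ^ m = 1) {r : Rule X} (h : r.chk n c = true) :
    ∀ w ∈ r.needs n, ev g w = 1 := by
  intro w hw
  cases r with
  | ord x => simp [Rule.needs] at hw
  | low r =>
    simp only [Rule.needs, List.mem_singleton] at hw
    subst hw
    have := hc _ _ h
    rwa [_root_.pow_one] at this
  | conj a u v m =>
    rw [Rule.chk, Bool.and_eq_true] at h
    rw [Rule.needs, List.mem_cons] at hw
    rcases hw with rfl | hw
    · have := hc _ _ h.1
      rwa [_root_.pow_one] at this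
    · have h2 := h.2
      cases h3 : (isPow n u m || isPow n v m) with
      | true => rw [h3] at hw; simp at hw
      | false =>
        rw [h3] at hw
        simp only [cond_false, List.mem_singleton] at hw
        subst hw
        rw [Bool.or_eq_false_iff] at h3
        rw [h3.1, h3.2, Bool.false_or, Bool.false_or] at h2
        rw [ev_rep]
        exact hc _ _ h2

end flat

end H35.Stem
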