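import Mathlib
import Cfsg.Agent.Lib.H35.StemCover

/-!
# Perfectness from relators, by exponent sums
-/

set_option autoImplicit false

namespace H35.Stem

open Subgroup

section perf

variable {X : Type} [Fintype X] [DecidableEq X]

/-- exponent sum of the letter `y` -/
def es (y : X) : W X → ℤ
  | [] => 0
  | (x, b) :: t => (if x = y then (if b then 1 else -1) else 0) + es y t

theorem ev_comm {A : Type} [CommGroup A] (f : X → A) (w : W X) : ev f w = ∏ y, f y ^ es y w := by
  induction w with
  | nil => simp [es]
  | cons a w ih =>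
    rcases a with ⟨x, b⟩
    rw [ev_cons, ih]
    simp only [es, zpow_add, Finset.prod_mul_distrib]
    congr 1
    rw [Finset.prod_eq_single x]
    · cases b <;> simp [el]
    · intro y _ hy
      rw [if_neg (Ne.symm hy), zpow_zero]
    · intro h
      exact absurd (Finset.mem_univ _) h

/-- checked steps -/
def stepsOK (n : X → ℕ) : List X → List (X × W X) → Bool
  | _, [] => true
  | known, (x, r) :: t => decide (Nat.Coprime (n x) (es x r).natAbs) &&
      (decide (∀ y, y = x ∨ y ∈ known ∨ es y r = 0) && stepsOK n (x :: known) t)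

theorem steps_spec {A : Type} [CommGroup A] {f : X → A} {n : X → ℕ} (hn : ∀ x, f x ^ n x = 1) :
    ∀ (l : List (X × W X)) (known : List X), stepsOK n known l = true → (∀ y ∈ known, f y = 1) →
      (∀ a ∈ l, ev f a.2 = 1) → ∀ a ∈ l, f a.1 = 1 := by
  intro l
  induction l with
  | nil => intro _ _ _ _ a ha; exact absurd ha (by simp)
  | cons a l ih =>
    intro known hok hk hr b hb
    obtain ⟨x, r⟩ := a
    rw [stepsOK, Bool.and_eq_true, Bool.and_eq_true, decide_eq_true_eq, decide_eq_true_eq] at hok
    obtain ⟨h1, h2, h3⟩ := hok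
    have hx : f x = 1 := by
      have h4 := hr (x, r) List.mem_cons_self
      rw [ev_comm, Finset.prod_eq_single x] at h4
      · have h5 : f x ^ (es x r).natAbs = 1 := by
          rcases Int.natAbs_eq (es x r) with h6 | h6
          · rw [h6, zpow_natCast] at h4
            exact h4
          · rw [h6, zpow_neg, zpow_natCast, inv_eq_one] at h4
            exact h4
        have h7 : orderOf (f x) ∣ Nat.gcd (n x) (es x r).natAbs :=
          Nat.dvd_gcd (orderOf_dvd_of_pow_eq_one (hn x)) (orderOf_dvd_of_pow_eq_one h5)
        rw [h1] at h7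
        exact orderOf_eq_one_iff.1 (Nat.dvd_one.1 h7)
      · intro y _ hy
        rcases h2 y with h6 | h6 | h6
        · exact absurd h6 hy
        · rw [hk y h6, one_zpow]
        · rw [h6, zpow_zero]
      · intro h
        exact absurd (Finset.mem_univ _) h
    rcases List.mem_cons.1 hb with rfl | hb
    · exact hx
    · refine ih (x :: known) h3 ?_ (fun a ha => hr a (List.mem_cons_of_mem _ ha)) b hb
      intro y hy
      rcases List.mem_cons.1 hy with rfl | hy
      · exact hx
      · exact hk y hy

/-- **perfectness** -/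
theorem perfect_of {G : Type} [Group G] {g : X → G} {n : X → ℕ} {S : X → Bool} (hgen : Kl g S = ⊤)
    (hn : ∀ x, g x ^ n x = 1) (l : List (X × W X)) (hl : stepsOK n [] l = true) (ht : ∀ a ∈ l, ev g a.2 = 1)
    (hS : ∀ x, S x = true → ∃ a ∈ l, a.1 = x) : commutator G = ⊤ := by
  have h1 : ∀ a ∈ l, Abelianization.of (g a.1) = 1 := by
    refine steps_spec (f := fun x => Abelianization.of (g x)) (n := n) ?_ l [] hl (by simp) ?_
    · intro x
      rw [← map_pow, hn, map_one]
    · intro a ha
      rw [← ev_hom, ht a ha, map_one]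
  rw [eq_top_iff, ← hgen, Kl, closure_le]
  rintro _ ⟨x, hx, rfl⟩
  obtain ⟨a, ha, rfl⟩ := hS x hx
  have h2 := h1 a ha
  have h3 : g a.1 ∈ (Abelianization.of : G →* Abelianization G).ker := h2
  rwa [Abelianization.ker_of] at h3

end perf

end H35.Stem
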