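import Mathlib
import Cfsg.Prelude.Def_Spor_Suz
import Cfsg.Prelude.Def_Sporadic
import Cfsg.Agent.Lib.H35.CoxGroup
import Cfsg.Agent.Lib.H35.NSuz.Rel
import Cfsg.Agent.Lib.H35.NSuz.Orb
import Cfsg.Agent.Lib.H35.NSuz.Sim
import Cfsg.Agent.Lib.H35.TCDih5
import Cfsg.Agent.Lib.H35.TCSuzA
import Cfsg.Agent.Lib.H35.TCSuzB
import Cfsg.Agent.Lib.H35.TCSuzC
import Cfsg.Agent.Lib.H35.TCSuzD
import Cfsg.Agent.Lib.H35.TCSuzS

/-!
# The presented group Suz: faithful action on 1782 points, order, simplicity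
-/

set_option autoImplicit false
set_option linter.all false
set_option maxRecDepth 10000

namespace H35.SuzMain

open H35.TC H35.Net Cfsg.Spor

/-- letters -/
abbrev LA := H35.TCSuzA.Lt

/-- the generators of the presented group -/
def gP : LA → Cfsg.Spor.Suz
  | .a => PresentedGroup.of Suz.Gen.a
  | .b => PresentedGroup.of Suz.Gen.b
  | .c => PresentedGroup.of Suz.Gen.c
  | .d => PresentedGroup.of Suz.Gen.d
  | .e => PresentedGroup.of Suz.Gen.e
  | .f => PresentedGroup.of Suz.Gen.f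
  | .g => PresentedGroup.of Suz.Gen.g

/-- letter of a generator -/
def toLt : Suz.Gen → LA
  | .a => .a
  | .b => .b
  | .c => .c
  | .d => .d
  | .e => .e
  | .f => .f
  | .g => .g

theorem gP_toLt (x : Suz.Gen) : gP (toLt x) = PresentedGroup.of x := by cases x <;> rfl

theorem hpP : ∀ x y, (gP x * gP y) ^ TCSuzA.mm x y = 1 := by
  intro x y
  cases x <;> cases y <;> first
    | exact pow_zero _
    | exact cox_pair (by decide) (by decide) (by decide)

theorem hinvP : ∀ x, gP (TCSuzA.inv x) = (gP x)⁻¹ := by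
  intro x
  have h := hpP x x
  cases x
  · have h2 : gP .a * gP .a = 1 := by simpa [TCSuzA.mm] using h
    exact (inv_eq_of_mul_eq_one_left h2).symm
  · have h2 : gP .b * gP .b = 1 := by simpa [TCSuzA.mm] using h
    exact (inv_eq_of_mul_eq_one_left h2).symm
  · have h2 : gP .c * gP .c = 1 := by simpa [TCSuzA.mm] using h
    exact (inv_eq_of_mul_eq_one_left h2).symm
  · have h2 : gP .d * gP .d = 1 := by simpa [TCSuzA.mm] using h
    exact (inv_eq_of_mul_eq_one_left h2).symm
  · have h2 : gP .e * gP .e = 1 := by simpa [TCSuzA.mm] using h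
    exact (inv_eq_of_mul_eq_one_left h2).symm
  · have h2 : gP .f * gP .f = 1 := by simpa [TCSuzA.mm] using h
    exact (inv_eq_of_mul_eq_one_left h2).symm
  · have h2 : gP .g * gP .g = 1 := by simpa [TCSuzA.mm] using h
    exact (inv_eq_of_mul_eq_one_left h2).symm

theorem lift_eq {K : Type} [Group K] (f : Suz.Gen → K) (x : Suz.Gen) :
    FreeGroup.lift f (FreeGroup.of x) = f x := FreeGroup.lift_apply_of ..

theorem heP : ∀ p ∈ TCSuzA.extra, ((p.1.map gP).prod) ^ p.2 = 1 := by
  intro p hp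
  simp only [TCSuzA.extra, List.mem_cons, List.mem_nil_iff, or_false] at hp
  have jv_a : (gP .a)⁻¹ = gP .a := (hinvP .a).symm
  have jv_b : (gP .b)⁻¹ = gP .b := (hinvP .b).symm
  have jv_c : (gP .c)⁻¹ = gP .c := (hinvP .c).symm
  have jv_d : (gP .d)⁻¹ = gP .d := (hinvP .d).symm
  have jv_e : (gP .e)⁻¹ = gP .e := (hinvP .e).symm
  have jv_f : (gP .f)⁻¹ = gP .f := (hinvP .f).symm
  have jv_g : (gP .g)⁻¹ = gP .g := (hinvP .g).symm
  rcases hp with rfl | rfl | rfl | rfl | rfl
  · have h : _ = (1 : Cfsg.Spor.Suz) := cox_extra (edges := Suz.edges) (ex := Suz.extra) (r := Suz.a * ((Suz.f * Suz.g) ^ 2)⁻¹) (by simp [Suz.extra])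
    simp only [map_mul, map_inv, map_pow, lift_eq] at h
    have h1 : gP .a * ((gP .f * gP .g) ^ 2)⁻¹ = 1 := h
    simpa [pow_succ, mul_assoc, mul_inv_rev, jv_a, jv_b, jv_c, jv_d, jv_e, jv_f, jv_g] using h1
  · have h : _ = (1 : Cfsg.Spor.Suz) := cox_extra (edges := Suz.edges) (ex := Suz.extra) (r := Suz.a * ((Suz.c * Suz.d) ^ 4)⁻¹) (by simp [Suz.extra])
    simp only [map_mul, map_inv, map_pow, lift_eq] at h
    have h1 : gP .a * ((gP .c * gP .d) ^ 4)⁻¹ = 1 := h
    simpa [pow_succ, mul_assoc, mul_inv_rev, jv_a, jv_b, jv_c, jv_d, jv_e, jv_f, jv_g] using h1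
  · have h : _ = (1 : Cfsg.Spor.Suz) := cox_extra (edges := Suz.edges) (ex := Suz.extra) (r := (Suz.b * Suz.f * Suz.g) ^ 5) (by simp [Suz.extra])
    simp only [map_mul, map_inv, map_pow, lift_eq] at h
    have h1 : (gP .b * gP .f * gP .g) ^ 5 = 1 := h
    have e : (([.b, .f, .g] : List LA).map gP).prod = gP .b * gP .f * gP .g := by simp [pow_succ, mul_assoc]
    rw [e]; exact h1
  · have h : _ = (1 : Cfsg.Spor.Suz) := cox_extra (edges := Suz.edges) (ex := Suz.extra) (r := (Suz.a * Suz.b * Suz.c * Suz.f) ^ 5) (by simp [Suz.extra])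
    simp only [map_mul, map_inv, map_pow, lift_eq] at h
    have h1 : (gP .a * gP .b * gP .c * gP .f) ^ 5 = 1 := h
    have e : (([.a, .b, .c, .f] : List LA).map gP).prod = gP .a * gP .b * gP .c * gP .f := by simp [pow_succ, mul_assoc]
    rw [e]; exact h1
  · have h : _ = (1 : Cfsg.Spor.Suz) := cox_extra (edges := Suz.edges) (ex := Suz.extra) (r := ((Suz.b * Suz.c * Suz.d * Suz.c * Suz.d) ^ 5 * Suz.e) ^ 3) (by simp [Suz.extra])
    simp only [map_mul, map_inv, map_pow, lift_eq] at h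
    have h1 : ((gP .b * gP .c * gP .d * gP .c * gP .d) ^ 5 * gP .e) ^ 3 = 1 := h
    have e : (([.b, .c, .d, .c, .d, .b, .c, .d, .c, .d, .b, .c, .d, .c, .d, .b, .c, .d, .c, .d, .b, .c, .d, .c, .d, .e] : List LA).map gP).prod = (gP .b * gP .c * gP .d * gP .c * gP .d) ^ 5 * gP .e := by simp [pow_succ, mul_assoc]
    rw [e]; exact h1

theorem genP : Subgroup.closure (Set.range gP) = ⊤ := by
  rw [eq_top_iff, ← cox_closure_range, Subgroup.closure_le]
  rintro _ ⟨x, rfl⟩
  exact Subgroup.subset_closure ⟨toLt x, gP_toLt x⟩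

theorem exists_phi : ∃ φ : Cfsg.Spor.Suz →* Equiv.Perm ℕ, ∀ x, φ (gP x) = NSuz.π x := by
  have hp := NSuz.hp
  have he := NSuz.he
  have jv_a : (NSuz.π .a)⁻¹ = NSuz.π .a := inv_eq_of_mul_eq_one_left (by simpa [TCSuzA.mm] using hp .a .a)
  have jv_b : (NSuz.π .b)⁻¹ = NSuz.π .b := inv_eq_of_mul_eq_one_left (by simpa [TCSuzA.mm] using hp .b .b)
  have jv_c : (NSuz.π .c)⁻¹ = NSuz.π .c := inv_eq_of_mul_eq_one_left (by simpa [TCSuzA.mm] using hp .c .c)
  have jv_d : (NSuz.π .d)⁻¹ = NSuz.π .d := inv_eq_of_mul_eq_one_left (by simpa [TCSuzA.mm] using hp .d .d)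
  have jv_e : (NSuz.π .e)⁻¹ = NSuz.π .e := inv_eq_of_mul_eq_one_left (by simpa [TCSuzA.mm] using hp .e .e)
  have jv_f : (NSuz.π .f)⁻¹ = NSuz.π .f := inv_eq_of_mul_eq_one_left (by simpa [TCSuzA.mm] using hp .f .f)
  have jv_g : (NSuz.π .g)⁻¹ = NSuz.π .g := inv_eq_of_mul_eq_one_left (by simpa [TCSuzA.mm] using hp .g .g)
  obtain ⟨φ, hφ⟩ := cox_hom (edges := Suz.edges) (ex := Suz.extra) (fun x => NSuz.π (toLt x)) (by
    intro x hx y hy
    have := hp (toLt x) (toLt y)
    cases x <;> cases y <;> first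
      | exact this
      | exact absurd hx (by decide)
      | exact absurd hy (by decide)) (by
    intro r hr
    simp only [Suz.extra, List.mem_cons, List.mem_nil_iff, or_false] at hr
    rcases hr with rfl | rfl | rfl | rfl | rfl
    · have h := he ([.a, .d, .c, .d, .c, .d, .c, .d, .c], 1) (by simp [TCSuzA.extra])
      simp only [map_mul, map_inv, map_pow, lift_eq]
      simpa [pow_succ, mul_assoc, mul_inv_rev, toLt, jv_a, jv_b, jv_c, jv_d, jv_e, jv_f, jv_g] using h
    · have h := he ([.a, .g, .f, .g, .f], 1) (by simp [TCSuzA.extra])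
      simp only [map_mul, map_inv, map_pow, lift_eq]
      simpa [pow_succ, mul_assoc, mul_inv_rev, toLt, jv_a, jv_b, jv_c, jv_d, jv_e, jv_f, jv_g] using h
    · have h := he ([.a, .b, .c, .f], 5) (by simp [TCSuzA.extra])
      simp only [map_mul, map_inv, map_pow, lift_eq]
      have e : (([.a, .b, .c, .f] : List LA).map NSuz.π).prod = NSuz.π .a * NSuz.π .b * NSuz.π .c * NSuz.π .f := by simp [pow_succ, mul_assoc]
      rw [e] at h
      exact h
    · have h := he ([.b, .f, .g], 5) (by simp [TCSuzA.extra])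
      simp only [map_mul, map_inv, map_pow, lift_eq]
      have e : (([.b, .f, .g] : List LA).map NSuz.π).prod = NSuz.π .b * NSuz.π .f * NSuz.π .g := by simp [pow_succ, mul_assoc]
      rw [e] at h
      exact h
    · have h := he ([.b, .c, .d, .c, .d, .b, .c, .d, .c, .d, .b, .c, .d, .c, .d, .b, .c, .d, .c, .d, .b, .c, .d, .c, .d, .e], 3) (by simp [TCSuzA.extra])
      simp only [map_mul, map_inv, map_pow, lift_eq]
      have e : (([.b, .c, .d, .c, .d, .b, .c, .d, .c, .d, .b, .c, .d, .c, .d, .b, .c, .d, .c, .d, .b, .c, .d, .c, .d, .e] : List LA).map NSuz.π).prod = (NSuz.π .b * NSuz.π .c * NSuz.π .d * NSuz.π .c * NSuz.π .d) ^ 5 * NSuz.π .e := by simp [pow_succ, mul_assoc]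
      rw [e] at h
      exact h
      )
  refine ⟨φ, fun x => ?_⟩
  cases x
  · exact hφ .a
  · exact hφ .b
  · exact hφ .c
  · exact hφ .d
  · exact hφ .e
  · exact hφ .f
  · exact hφ .g

/-- the action on 1782 points -/
noncomputable def φ : Cfsg.Spor.Suz →* Equiv.Perm ℕ := exists_phi.choose

theorem hφ : ∀ x, φ (gP x) = NSuz.π x := exists_phi.choose_spec

theorem mem_range (x : LA) : NSuz.π x ∈ φ.range := ⟨gP x, hφ x⟩

/-- letters -/
def i0 : H35.TCSuzA.Lt → LA
  | .a => .a
  | .b => .b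
  | .c => .c
  | .d => .d
  | .e => .e
  | .f => .f
  | .g => .g

/-- subgroup -/
def H0 : Subgroup Cfsg.Spor.Suz := Subgroup.closure (Set.range fun x => gP (i0 x))

/-- letters -/
def i1 : H35.TCSuzB.Lt → LA
  | .a => .a
  | .b => .b
  | .c => .c
  | .d => .d
  | .e => .e
  | .f => .f

/-- subgroup -/
def H1 : Subgroup Cfsg.Spor.Suz := Subgroup.closure (Set.range fun x => gP (i1 x))

/-- letters -/
def i2 : H35.TCSuzC.Lt → LA
  | .a => .a
  | .b => .b
  | .c => .c
  | .d => .d
  | .e => .e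

/-- subgroup -/
def H2 : Subgroup Cfsg.Spor.Suz := Subgroup.closure (Set.range fun x => gP (i2 x))

/-- letters -/
def i3 : H35.TCSuzD.Lt → LA
  | .a => .a
  | .b => .b
  | .c => .c
  | .d => .d

/-- subgroup -/
def H3 : Subgroup Cfsg.Spor.Suz := Subgroup.closure (Set.range fun x => gP (i3 x))

/-- letters -/
def i4 : H35.TCDih5.Lt → LA
  | .a => .a
  | .b => .b

/-- subgroup -/
def H4 : Subgroup Cfsg.Spor.Suz := Subgroup.closure (Set.range fun x => gP (i4 x))

theorem idx0 : H1.relIndex H0 ≤ 1782 ∧ H1.relIndex H0 ≠ 0 := by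
  refine TCSuzA.main (g := fun x => gP (i0 x)) (H := H1) (by intro x; have h := hinvP (i0 x); cases x <;> exact h)
    (transfer_hp hpP i0 (by intro x y; cases x <;> cases y <;> decide))
    (transfer_he heP i0 (by decide)) ?_
  intro r hr
  simp only [TCSuzA.subs, List.mem_cons, List.mem_nil_iff, or_false] at hr
  rcases hr with rfl | rfl | rfl | rfl | rfl | rfl
  · simp only [List.map_cons, List.map_nil, List.prod_cons, List.prod_nil, mul_one]
    exact Subgroup.subset_closure ⟨.a, rfl⟩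
  · simp only [List.map_cons, List.map_nil, List.prod_cons, List.prod_nil, mul_one]
    exact Subgroup.subset_closure ⟨.b, rfl⟩
  · simp only [List.map_cons, List.map_nil, List.prod_cons, List.prod_nil, mul_one]
    exact Subgroup.subset_closure ⟨.c, rfl⟩
  · simp only [List.map_cons, List.map_nil, List.prod_cons, List.prod_nil, mul_one]
    exact Subgroup.subset_closure ⟨.d, rfl⟩
  · simp only [List.map_cons, List.map_nil, List.prod_cons, List.prod_nil, mul_one]
    exact Subgroup.subset_closure ⟨.e, rfl⟩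
  · simp only [List.map_cons, List.map_nil, List.prod_cons, List.prod_nil, mul_one]
    exact Subgroup.subset_closure ⟨.f, rfl⟩

theorem idx1 : H2.relIndex H1 ≤ 416 ∧ H2.relIndex H1 ≠ 0 := by
  refine TCSuzB.main (g := fun x => gP (i1 x)) (H := H2) (by intro x; have h := hinvP (i1 x); cases x <;> exact h)
    (transfer_hp hpP i1 (by intro x y; cases x <;> cases y <;> decide))
    (transfer_he heP i1 (by decide)) ?_
  intro r hr
  simp only [TCSuzB.subs, List.mem_cons, List.mem_nil_iff, or_false] at hr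
  rcases hr with rfl | rfl | rfl | rfl | rfl
  · simp only [List.map_cons, List.map_nil, List.prod_cons, List.prod_nil, mul_one]
    exact Subgroup.subset_closure ⟨.a, rfl⟩
  · simp only [List.map_cons, List.map_nil, List.prod_cons, List.prod_nil, mul_one]
    exact Subgroup.subset_closure ⟨.b, rfl⟩
  · simp only [List.map_cons, List.map_nil, List.prod_cons, List.prod_nil, mul_one]
    exact Subgroup.subset_closure ⟨.c, rfl⟩
  · simp only [List.map_cons, List.map_nil, List.prod_cons, List.prod_nil, mul_one]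
    exact Subgroup.subset_closure ⟨.d, rfl⟩
  · simp only [List.map_cons, List.map_nil, List.prod_cons, List.prod_nil, mul_one]
    exact Subgroup.subset_closure ⟨.e, rfl⟩

theorem idx2 : H3.relIndex H2 ≤ 280 ∧ H3.relIndex H2 ≠ 0 := by
  refine TCSuzC.main (g := fun x => gP (i2 x)) (H := H3) (by intro x; have h := hinvP (i2 x); cases x <;> exact h)
    (transfer_hp hpP i2 (by intro x y; cases x <;> cases y <;> decide))
    (transfer_he heP i2 (by decide)) ?_
  intro r hr
  simp only [TCSuzC.subs, List.mem_cons, List.mem_nil_iff, or_false] at hr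
  rcases hr with rfl | rfl | rfl | rfl
  · simp only [List.map_cons, List.map_nil, List.prod_cons, List.prod_nil, mul_one]
    exact Subgroup.subset_closure ⟨.a, rfl⟩
  · simp only [List.map_cons, List.map_nil, List.prod_cons, List.prod_nil, mul_one]
    exact Subgroup.subset_closure ⟨.b, rfl⟩
  · simp only [List.map_cons, List.map_nil, List.prod_cons, List.prod_nil, mul_one]
    exact Subgroup.subset_closure ⟨.c, rfl⟩
  · simp only [List.map_cons, List.map_nil, List.prod_cons, List.prod_nil, mul_one]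
    exact Subgroup.subset_closure ⟨.d, rfl⟩

theorem idx3 : H4.relIndex H3 ≤ 216 ∧ H4.relIndex H3 ≠ 0 := by
  refine TCSuzD.main (g := fun x => gP (i3 x)) (H := H4) (by intro x; have h := hinvP (i3 x); cases x <;> exact h)
    (transfer_hp hpP i3 (by intro x y; cases x <;> cases y <;> decide))
    (transfer_he heP i3 (by decide)) ?_
  intro r hr
  simp only [TCSuzD.subs, List.mem_cons, List.mem_nil_iff, or_false] at hr
  rcases hr with rfl | rfl
  · simp only [List.map_cons, List.map_nil, List.prod_cons, List.prod_nil, mul_one]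
    exact Subgroup.subset_closure ⟨.a, rfl⟩
  · simp only [List.map_cons, List.map_nil, List.prod_cons, List.prod_nil, mul_one]
    exact Subgroup.subset_closure ⟨.b, rfl⟩

theorem idx4 : (⊥ : Subgroup Cfsg.Spor.Suz).relIndex H4 ≤ 10 ∧ (⊥ : Subgroup Cfsg.Spor.Suz).relIndex H4 ≠ 0 := by
  refine TCDih5.main (g := fun x => gP (i4 x)) (H := (⊥ : Subgroup Cfsg.Spor.Suz)) (by intro x; have h := hinvP (i4 x); cases x <;> exact h)
    (transfer_hp hpP i4 (by intro x y; cases x <;> cases y <;> decide))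
    (transfer_he heP i4 (by decide)) ?_
  intro r hr
  simp [TCDih5.subs] at hr

theorem H0_top : H0 = ⊤ := by
  rw [eq_top_iff, ← genP]
  apply Subgroup.closure_mono
  rintro _ ⟨x, rfl⟩
  cases x
  · exact ⟨.a, rfl⟩
  · exact ⟨.b, rfl⟩
  · exact ⟨.c, rfl⟩
  · exact ⟨.d, rfl⟩
  · exact ⟨.e, rfl⟩
  · exact ⟨.f, rfl⟩
  · exact ⟨.g, rfl⟩

theorem card_le : Nat.card Cfsg.Spor.Suz ≤ 448345497600 ∧ Nat.card Cfsg.Spor.Suz ≠ 0 := by
  have h4 := card_le_bot idx4
  have h3 := card_le_step (closure_letters_le (g := gP) (ι := i4) (κ := i3) (fun x => by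
    cases x <;> [exact ⟨.a, rfl⟩; exact ⟨.b, rfl⟩])) idx3 h4
  have h2 := card_le_step (closure_letters_le (g := gP) (ι := i3) (κ := i2) (fun x => by
    cases x <;> [exact ⟨.a, rfl⟩; exact ⟨.b, rfl⟩; exact ⟨.c, rfl⟩; exact ⟨.d, rfl⟩])) idx2 h3
  have h1 := card_le_step (closure_letters_le (g := gP) (ι := i2) (κ := i1) (fun x => by
    cases x <;> [exact ⟨.a, rfl⟩; exact ⟨.b, rfl⟩; exact ⟨.c, rfl⟩; exact ⟨.d, rfl⟩; exact ⟨.e, rfl⟩])) idx1 h2
  have h0 := card_le_step (closure_letters_le (g := gP) (ι := i1) (κ := i0) (fun x => by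
    cases x <;> [exact ⟨.a, rfl⟩; exact ⟨.b, rfl⟩; exact ⟨.c, rfl⟩; exact ⟨.d, rfl⟩; exact ⟨.e, rfl⟩; exact ⟨.f, rfl⟩])) idx0 h1
  change Nat.card H0 ≤ _ ∧ Nat.card H0 ≠ 0 at h0
  rw [H0_top] at h0
  have e : Nat.card (⊤ : Subgroup Cfsg.Spor.Suz) = Nat.card Cfsg.Spor.Suz := Nat.card_congr Subgroup.topEquiv.toEquiv
  rw [e] at h0
  exact ⟨h0.1.trans (by norm_num), h0.2⟩

theorem fin : Finite Cfsg.Spor.Suz := Nat.finite_of_card_ne_zero card_le.2

theorem card_inj : Nat.card Cfsg.Spor.Suz = 448345497600 ∧ Function.Injective φ := by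
  have := fin
  have : Finite φ.range := Finite.of_surjective _ φ.rangeRestrict_surjective
  exact card_eq_and_inj card_le φ (NSuz.order_ge mem_range)

theorem htr : ∀ c, c < 1782 → ∃ g, φ g 0 = c := by
  intro c hc
  obtain ⟨p, ⟨g, rfl⟩, hg⟩ := NSuz.trans (Γ := φ.range) mem_range c hc
  exact ⟨g, hg⟩

/-- the subgroup generated by the words `subs` of the index certificate -/
def HS : Subgroup Cfsg.Spor.Suz := Subgroup.closure {y | ∃ w ∈ TCSuzA.subs, y = (w.map gP).prod}

theorem HS_fix : ∀ h ∈ HS, φ h 0 = 0 := by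
  refine fix_closure rfl ?_
  rintro _ ⟨w, hw, rfl⟩
  rw [map_word hφ]
  exact NSuz.subs_fix0 w hw

theorem subs_mem : ∀ w ∈ TCSuzA.subs, (w.map NSuz.π).prod ∈ (HS.map φ) := by
  intro w hw
  rw [← map_word (g := gP) hφ]
  exact ⟨_, Subgroup.subset_closure ⟨w, hw, rfl⟩, rfl⟩

theorem sub_ok : ∀ i : Fin 2, ∀ b, ((![NSuz.O_0, NSuz.O_1] : Fin 2 → ℕ) i).testBit b = true →
    ∃ h, φ h 0 = 0 ∧ φ h ((![137, 1] : Fin 2 → ℕ) i) = b := by
  intro i b hb
  fin_cases i
  · obtain ⟨_, ⟨h, hh, rfl⟩, hg⟩ := NSuz.O_0_orb subs_mem b hb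
    exact ⟨h, HS_fix h hh, hg⟩
  · obtain ⟨_, ⟨h, hh, rfl⟩, hg⟩ := NSuz.O_1_orb subs_mem b hb
    exact ⟨h, HS_fix h hh, hg⟩

theorem cover (b : ℕ) (hb : b < 1782) : b = 0 ∨ ∃ i : Fin 2, ((![NSuz.O_0, NSuz.O_1] : Fin 2 → ℕ) i).testBit b = true := by
  have h := bit_of_full NSuz.O_union hb


  rcases bit_lor h with h | h
  · rcases bit_lor h with h | h
    · exact Or.inl (bit_one h)
    · exact Or.inr ⟨0, h⟩
  · exact Or.inr ⟨1, h⟩

/-- letters -/
def iS : H35.TCSuzS.Lt → LA
  | .a => .a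
  | .b => .b
  | .c => .c
  | .d => .d
  | .e => .e
  | .f => .f
  | .g => .g

theorem simple : IsSimpleGroup Cfsg.Spor.Suz := by
  have := fin
  obtain ⟨hcard, hinj⟩ := card_inj
  refine simple_of_net (k := 11) φ hinj 1782 251596800 (by norm_num) (by rw [hcard])
    (pres_all hφ genP NSuz.pres) (fix_all hφ genP NSuz.fix_hi) htr (by norm_num) 2
    ![NSuz.O_0, NSuz.O_1] ![137, 1] ![416, 1365] sub_ok ?_ cover ?_ ?_ ?_
  · intro i
    fin_cases i
    · exact NSuz.O_0_card
    · exact NSuz.O_1_card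
  · decide
  · decide
  · intro N hN hw
    have hword : ∀ w : List LA, ((w.map NSuz.π).prod) ^ 11 = 1 → (w.map gP).prod ∈ N := by
      intro w h
      refine hw _ 11 ?_ (by norm_num)
      apply hinj
      rw [map_pow, map_word hφ, h, map_one]
    refine top_of_quot genP N ?_
    have hr : Set.range (fun x => (QuotientGroup.mk' N) (gP x)) =
        Set.range (fun x => (QuotientGroup.mk' N) (gP (iS x))) := by
      ext y
      constructor
      · rintro ⟨x, rfl⟩
        cases x
        · exact ⟨.a, rfl⟩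
        · exact ⟨.b, rfl⟩
        · exact ⟨.c, rfl⟩
        · exact ⟨.d, rfl⟩
        · exact ⟨.e, rfl⟩
        · exact ⟨.f, rfl⟩
        · exact ⟨.g, rfl⟩
      · rintro ⟨x, rfl⟩; exact ⟨iS x, rfl⟩
    rw [hr]
    have hws : ∀ w ∈ ([[.c, .b, .d, .e, .f, .g], [.b, .c, .d, .e, .g, .f], [.b, .c, .d, .e, .f, .g]] : List (List LA)), (w.map gP).prod ∈ N := by
      intro w hw
      simp only [List.mem_cons, List.mem_nil_iff, or_false] at hw
      rcases hw with rfl | rfl | rfl
      · exact hword _ NSuz.sw_0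
      · exact hword _ NSuz.sw_1
      · exact hword _ NSuz.sw_2
    refine TCSuzS.main (g := fun x => (QuotientGroup.mk' N) (gP (iS x))) (H := ⊥) ?_
      (transfer_hp (quot_hp hpP) iS (by intro x y; cases x <;> cases y <;> decide))
      (transfer_he (quot_he heP hws) iS (by decide)) ?_
    · intro x
      rw [← map_inv, ← hinvP]
      cases x <;> rfl
    · intro r hr
      simp [TCSuzS.subs] at hr

theorem isSuz : Cfsg.IsSuz Cfsg.Spor.Suz := ⟨simple, card_inj.1⟩

end H35.SuzMain
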